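import Mathlib

/-! # S4118, part A (helper8): automorphisms of `V₄`, `A₄`, `S₄` of order prime to the group order -/

set_option autoImplicit false
set_option linter.unusedVariables false
set_option linter.style.haveILetI false

namespace Cfsg.Agent.S4118L

universe u

/-- powers of an automorphism evaluate pointwise -/
theorem aut_pow_apply_fixed {Y : Type u} [Group Y] (β : MulAut Y) (y : Y) (h : β y = y) (k : ℕ) :
    (β ^ k) y = y := by
  induction k with
  | zero => simp
  | succ k ih => rw [pow_succ, MulAut.mul_apply, h, ih]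

/-- a general criterion: an automorphism of order prime to `6` is trivial when there is an
invariant elementary abelian `2`-subset `V` with at most `3` non-identity elements which is its own
centralizer -/
theorem aut_trivial_of_klein {Y : Type u} [Group Y] [Fintype Y] [DecidableEq Y] (V : Y → Prop)
    [DecidablePred V]
    (hinv : ∀ (β : MulAut Y) (v : Y), V v → V (β v))
    (hcard : Fintype.card {x : Y // V x ∧ x ≠ 1} ≤ 3)
    (hcent : ∀ c : Y, (∀ v, V v → c * v = v * c) → V c)
    (hsq : ∀ v, V v → v * v = 1)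
    (hconj : ∀ (x v : Y), V v → V (x * v * x⁻¹))
    (β : MulAut Y) (n : ℕ) (hn : β ^ n = 1) (hcop : n.Coprime 6) : β = 1 := by
  classical
  -- the induced permutation of the non-identity elements of `V`
  let W := {x : Y // V x ∧ x ≠ 1}
  have hne : ∀ (γ : MulAut Y) (x : Y), x ≠ 1 → γ x ≠ 1 := by
    intro γ x hx h
    apply hx
    have := congrArg γ.symm h
    simpa using this
  let σ : Equiv.Perm W :=
    { toFun := fun w => ⟨β w.1, hinv β _ w.2.1, hne β _ w.2.2⟩
      invFun := fun w => ⟨β⁻¹ w.1, hinv β⁻¹ _ w.2.1, hne β⁻¹ _ w.2.2⟩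
      left_inv := fun w => by
        apply Subtype.ext
        show β⁻¹ (β w.1) = w.1
        rw [← MulAut.mul_apply, inv_mul_cancel, MulAut.one_apply]
      right_inv := fun w => by
        apply Subtype.ext
        show β (β⁻¹ w.1) = w.1
        rw [← MulAut.mul_apply, mul_inv_cancel, MulAut.one_apply] }
  have hσpow : ∀ (k : ℕ) (w : W), ((σ ^ k) w).1 = (β ^ k) w.1 := by
    intro k
    induction k with
    | zero => intro w; simp
    | succ k ih =>
      intro w
      rw [pow_succ, Equiv.Perm.mul_apply, ih, pow_succ, MulAut.mul_apply]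
      rfl
  have hσn : σ ^ n = 1 := by
    ext w
    rw [hσpow, hn]
    simp
  have hσ6 : σ ^ 6 = 1 := by
    have h1 : σ ^ Fintype.card (Equiv.Perm W) = 1 := pow_card_eq_one
    rw [Fintype.card_perm] at h1
    have h2 : (Fintype.card W).factorial ∣ 6 := by
      have : Fintype.card W ≤ 3 := hcard
      interval_cases (Fintype.card W) <;> decide
    obtain ⟨c, hc⟩ := h2
    rw [hc, pow_mul, h1, one_pow]
  have hσ1 : σ = 1 := by
    have h1 : orderOf σ ∣ n := orderOf_dvd_of_pow_eq_one hσn
    have h2 : orderOf σ ∣ 6 := orderOf_dvd_of_pow_eq_one hσ6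
    have h3 : orderOf σ ∣ Nat.gcd n 6 := Nat.dvd_gcd h1 h2
    rw [hcop] at h3
    have h4 : orderOf σ = 1 := Nat.dvd_one.mp h3
    exact orderOf_eq_one_iff.mp h4
  -- `β` fixes `V` pointwise
  have hfixV : ∀ v, V v → β v = v := by
    intro v hv
    by_cases h1 : v = 1
    · rw [h1, map_one]
    · have := congrArg (fun τ : Equiv.Perm W => (τ ⟨v, hv, h1⟩).1) hσ1
      exact this
  -- `x⁻¹ β x` centralizes `V`, hence lies in `V`
  have hV : ∀ x : Y, V (x⁻¹ * β x) := by
    intro x
    apply hcent
    intro v hv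
    have h1 : β (x * v * x⁻¹) = x * v * x⁻¹ := hfixV _ (hconj x v hv)
    rw [map_mul, map_mul, map_inv, hfixV v hv] at h1
    -- β x * v * (β x)⁻¹ = x * v * x⁻¹
    calc x⁻¹ * β x * v = x⁻¹ * (β x * v * (β x)⁻¹) * β x := by group
      _ = x⁻¹ * (x * v * x⁻¹) * β x := by rw [h1]
      _ = v * (x⁻¹ * β x) := by group
  ext x
  rw [MulAut.one_apply]
  set c := x⁻¹ * β x with hc
  have hcV : V c := hV x
  have hβx : β x = x * c := by rw [hc]; group
  have hβc : β c = c := hfixV c hcV
  have hpow : ∀ k : ℕ, (β ^ k) x = x * c ^ k := by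
    intro k
    induction k with
    | zero => simp
    | succ k ih =>
      rw [pow_succ', MulAut.mul_apply, ih, map_mul, hβx, map_pow, hβc, pow_succ']
      group
  have h1 := hpow n
  rw [hn, MulAut.one_apply] at h1
  have hcn : c ^ n = 1 := by
    have : x * c ^ n = x * 1 := by rw [mul_one]; exact h1.symm
    exact mul_left_cancel this
  have hc2 : c ^ 2 = 1 := by rw [pow_two]; exact hsq c hcV
  have h2 : orderOf c ∣ Nat.gcd n 2 := Nat.dvd_gcd (orderOf_dvd_of_pow_eq_one hcn)
    (orderOf_dvd_of_pow_eq_one hc2)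
  have h3 : Nat.gcd n 2 = 1 := by
    have : Nat.Coprime n 2 := Nat.Coprime.coprime_dvd_right (by norm_num : 2 ∣ 6) hcop
    exact this
  rw [h3] at h2
  have hc1 : c = 1 := orderOf_eq_one_iff.mp (Nat.dvd_one.mp h2)
  rw [hβx, hc1, mul_one]

/-- automorphisms of `A₄` of order prime to `6` are trivial -/
theorem aut_A4_trivial (β : MulAut (alternatingGroup (Fin 4))) (n : ℕ) (hn : β ^ n = 1)
    (hcop : n.Coprime 6) : β = 1 := by
  refine aut_trivial_of_klein (fun x => x * x = 1) ?_ ?_ ?_ ?_ ?_ β n hn hcop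
  · intro β v hv
    show β v * β v = 1
    rw [← map_mul, hv, map_one]
  · decide +kernel
  · decide +kernel
  · intro v hv
    exact hv
  · intro x v hv
    show x * v * x⁻¹ * (x * v * x⁻¹) = 1
    have : x * v * x⁻¹ * (x * v * x⁻¹) = x * (v * v) * x⁻¹ := by group
    rw [this, hv]; group

/-- automorphisms of `S₄` of order prime to `6` are trivial -/
theorem aut_S4_trivial (β : MulAut (Equiv.Perm (Fin 4))) (n : ℕ) (hn : β ^ n = 1)
    (hcop : n.Coprime 6) : β = 1 := by
  refine aut_trivial_of_klein (fun x => ∃ y : Equiv.Perm (Fin 4), y ^ 4 = 1 ∧ x = y * y)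
    ?_ ?_ ?_ ?_ ?_ β n hn hcop
  · rintro β v ⟨y, hy, rfl⟩
    refine ⟨β y, ?_, map_mul β y y⟩
    rw [← map_pow, hy, map_one]
  · decide +kernel
  · decide +kernel
  · decide +kernel
  · rintro x v ⟨y, hy, rfl⟩
    refine ⟨x * y * x⁻¹, ?_, by group⟩
    rw [conj_pow, hy]; group

theorem aut_D2_pow_six : ∀ β : MulAut (DihedralGroup 2), β ^ 6 = 1 := by
  decide +kernel

theorem aut_D2_comm_of_pow_three : ∀ β γ : MulAut (DihedralGroup 2),
    β ^ 3 = 1 → γ ^ 3 = 1 → β * γ = γ * β := by
  decide +kernel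

/-- automorphisms of `V₄` of odd order commute -/
theorem aut_D2_comm (β γ : MulAut (DihedralGroup 2)) (n m : ℕ) (hn : β ^ n = 1) (hm : γ ^ m = 1)
    (hn2 : Odd n) (hm2 : Odd m) : β * γ = γ * β := by
  have key : ∀ (δ : MulAut (DihedralGroup 2)) (k : ℕ), δ ^ k = 1 → Odd k → δ ^ 3 = 1 := by
    intro δ k hk hodd
    have h1 : orderOf δ ∣ k := orderOf_dvd_of_pow_eq_one hk
    have h2 : orderOf δ ∣ 6 := orderOf_dvd_of_pow_eq_one (aut_D2_pow_six δ)
    have h3 : Odd (orderOf δ) := by
      obtain ⟨c, hc⟩ := h1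
      rw [hc] at hodd
      exact (Nat.odd_mul.mp hodd).1
    have h4 : orderOf δ ∣ 3 := by
      have h5 : orderOf δ ≤ 6 := Nat.le_of_dvd (by norm_num) h2
      have h6 : 0 < orderOf δ := Nat.pos_of_dvd_of_pos h2 (by norm_num)
      generalize orderOf δ = o at h2 h3 h5 h6
      interval_cases o
      · decide
      · exact absurd h3 (by decide)
      · decide
      · exact absurd h2 (by decide)
      · exact absurd h2 (by decide)
      · exact absurd h3 (by decide)
    exact orderOf_dvd_iff_pow_eq_one.mp h4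
  exact aut_D2_comm_of_pow_three β γ (key β n hn hn2) (key γ m hm hm2)

end Cfsg.Agent.S4118L
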