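import Mathlib

/-! # S4118, part B (helper8): coprime stability and induced automorphisms of a quotient -/

set_option autoImplicit false
set_option linter.unusedVariables false
set_option linter.style.haveILetI false

namespace Cfsg.Agent.S4118L

universe u v w

/-- **coprime stability**: an automorphism of order prime to `|M|` which is trivial on `M` and on
`K / M` is trivial -/
theorem aut_stab {K : Type u} [Group K] (M : Subgroup K) [Finite M] (a : MulAut K) (n : ℕ)
    (hn : a ^ n = 1) (hcop : n.Coprime (Nat.card M)) (h1 : ∀ x ∈ M, a x = x)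
    (h2 : ∀ x : K, x⁻¹ * a x ∈ M) : a = 1 := by
  ext x
  rw [MulAut.one_apply]
  set c := x⁻¹ * a x with hc
  have hcM : c ∈ M := h2 x
  have hax : a x = x * c := by rw [hc]; group
  have hac : a c = c := h1 c hcM
  have hpow : ∀ k : ℕ, (a ^ k) x = x * c ^ k := by
    intro k
    induction k with
    | zero => simp
    | succ k ih =>
      rw [pow_succ', MulAut.mul_apply, ih, map_mul, hax, map_pow, hac, pow_succ']
      group
  have h3 := hpow n
  rw [hn, MulAut.one_apply] at h3
  have hcn : c ^ n = 1 := by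
    have : x * c ^ n = x * 1 := by rw [mul_one]; exact h3.symm
    exact mul_left_cancel this
  have hcM' : c ^ Nat.card M = 1 := by
    have h : (⟨c, hcM⟩ : M) ^ Nat.card M = 1 := pow_card_eq_one'
    have h4 : ((⟨c, hcM⟩ : M) ^ Nat.card M : M).1 = (1 : M).1 := congrArg Subtype.val h
    rw [Subgroup.coe_pow, Subgroup.coe_one] at h4
    exact h4
  have h5 : orderOf c ∣ Nat.gcd n (Nat.card M) :=
    Nat.dvd_gcd (orderOf_dvd_of_pow_eq_one hcn) (orderOf_dvd_of_pow_eq_one hcM')
  rw [hcop] at h5
  have hc1 : c = 1 := orderOf_eq_one_iff.mp (Nat.dvd_one.mp h5)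
  rw [hax, hc1, mul_one]

/-- a group acting by automorphisms on `K` and preserving `ker f` acts on the image of `f` -/
theorem exists_induced_hom {Γ : Type u} {K : Type v} {Y : Type w} [Group Γ] [Group K] [Group Y]
    (α : Γ →* MulAut K) (f : K →* Y) (hf : Function.Surjective f)
    (hinv : ∀ g : Γ, (f.ker).map ((α g : K ≃* K) : K →* K) = f.ker) :
    ∃ B : Γ →* MulAut Y, ∀ (g : Γ) (k : K), B g (f k) = f (α g k) := by
  let e : K ⧸ f.ker ≃* Y := QuotientGroup.quotientKerEquivOfSurjective f hf
  have he : ∀ k : K, e (QuotientGroup.mk k) = f k := fun k => rfl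
  have hes : ∀ k : K, e.symm (f k) = QuotientGroup.mk k := by
    intro k
    rw [MulEquiv.symm_apply_eq, he]
  let c : Γ → (K ⧸ f.ker ≃* K ⧸ f.ker) := fun g =>
    QuotientGroup.congr f.ker f.ker (α g) (hinv g)
  let B0 : Γ → MulAut Y := fun g => e.symm.trans ((c g).trans e)
  have hB0 : ∀ (g : Γ) (k : K), B0 g (f k) = f (α g k) := by
    intro g k
    show e ((c g) (e.symm (f k))) = f (α g k)
    rw [hes, QuotientGroup.congr_mk, he]
  refine ⟨MonoidHom.mk' B0 ?_, hB0⟩
  intro g h
  ext y
  obtain ⟨k, rfl⟩ := hf y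
  rw [MulAut.mul_apply, hB0, hB0, hB0, map_mul, MulAut.mul_apply]

end Cfsg.Agent.S4118L
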