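import Mathlib
import Cfsg.Agent.Lib.Helper5.TIH.Basic

/-! # S4118, part G (helper8): the part of a complement `Q` centralizing `H` lies in `O` -/

set_option autoImplicit false
set_option linter.unusedVariables false
set_option linter.style.haveILetI false

namespace Cfsg.Agent.S4118L

open Cfsg.Agent.Lib.Helper5.TIH

universe u

theorem cent_inf_le {G : Type u} [Group G] [Finite G] (H O Q : Subgroup G) (hOn : O.Normal)
    (hOc : (Nat.card O).Coprime (Nat.card H))
    (hOmax : ∀ K : Subgroup G, K.Normal → (Nat.card K).Coprime (Nat.card H) → K ≤ O)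
    (hc : O ⊔ Subgroup.normalizer (H : Set G) = ⊤)
    (hQN : Q ≤ Subgroup.normalizer (H : Set G))
    (hQc : (Nat.card Q).Coprime (Nat.card H))
    (hNQH : ∀ n ∈ Subgroup.normalizer (H : Set G), ∃ q ∈ Q, ∃ h ∈ H, n = q * h) :
    Q ⊓ Subgroup.centralizer (H : Set G) ≤ O := by
  haveI := hOn
  set D : Subgroup G := Q ⊓ Subgroup.centralizer (H : Set G) with hD
  have hconj : ∀ n ∈ Subgroup.normalizer (H : Set G), ∀ d ∈ D, n * d * n⁻¹ ∈ D := by
    intro n hn d hd
    obtain ⟨q, hq, h, hh, rfl⟩ := hNQH n hn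
    obtain ⟨hdQ, hdC⟩ := Subgroup.mem_inf.mp hd
    rw [Subgroup.mem_centralizer_iff] at hdC
    have e1 : q * h * d * (q * h)⁻¹ = q * d * q⁻¹ := by
      have : h * d = d * h := hdC h hh
      calc q * h * d * (q * h)⁻¹ = q * (h * d) * h⁻¹ * q⁻¹ := by group
        _ = q * (d * h) * h⁻¹ * q⁻¹ := by rw [this]
        _ = q * d * q⁻¹ := by group
    rw [e1]
    refine Subgroup.mem_inf.mpr ⟨Q.mul_mem (Q.mul_mem hq hdQ) (Q.inv_mem hq), ?_⟩
    rw [Subgroup.mem_centralizer_iff]
    intro x hx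
    have hqN : q⁻¹ ∈ Subgroup.normalizer (H : Set G) := Subgroup.inv_mem _ (hQN hq)
    have hx' : q⁻¹ * x * q⁻¹⁻¹ ∈ H := (Subgroup.mem_normalizer_iff.mp hqN x).mp hx
    have hcomm := hdC _ hx'
    calc x * (q * d * q⁻¹) = q * ((q⁻¹ * x * q⁻¹⁻¹) * d) * q⁻¹ := by group
      _ = q * (d * (q⁻¹ * x * q⁻¹⁻¹)) * q⁻¹ := by rw [hcomm]
      _ = q * d * q⁻¹ * x := by group
  have hnorm : (O ⊔ D).Normal := by
    rw [← Subgroup.normalizer_eq_top_iff, eq_top_iff, ← hc]
    apply sup_le
    · exact le_trans le_sup_left Subgroup.le_normalizer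
    · intro g hg
      have key : ∀ g : G, g ∈ Subgroup.normalizer (H : Set G) →
          ∀ x ∈ O ⊔ D, g * x * g⁻¹ ∈ O ⊔ D := by
        intro g hg x hx
        rw [sup_comm, Subgroup.mem_sup_of_normal_right] at hx ⊢
        obtain ⟨y, hy, z, hz, rfl⟩ := hx
        refine ⟨g * y * g⁻¹, hconj g hg y hy, g * z * g⁻¹, hOn.conj_mem z hz g, by group⟩
      rw [Subgroup.mem_normalizer_iff]
      intro x
      constructor
      · exact key g hg x
      · intro hx
        have := key g⁻¹ (Subgroup.inv_mem _ hg) _ hx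
        have e : g⁻¹ * (g * x * g⁻¹) * g⁻¹⁻¹ = x := by group
        rwa [e] at this
  have hDQ : Nat.card D ∣ Nat.card Q := Subgroup.card_dvd_of_le inf_le_left
  have hcard : (Nat.card (O ⊔ D : Subgroup G)).Coprime (Nat.card H) := by
    have h1 := card_sup_dvd O D
    rw [sup_comm] at h1
    exact Nat.Coprime.coprime_dvd_left h1
      (Nat.Coprime.mul_left hOc (Nat.Coprime.coprime_dvd_left hDQ hQc))
  exact le_trans le_sup_right (hOmax _ hnorm hcard)

end Cfsg.Agent.S4118L
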