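import Mathlib
import Cfsg.Agent.Lib.S4118.AutA
import Cfsg.Agent.Lib.S4118.AutB
import Cfsg.Agent.Lib.S4291.SolvB
import Cfsg.Agent.Lib.S4291.UniqC
import Cfsg.Agent.Lib.S4291.UniqGen

/-! # S4118, part C (helper8): the valid subgroup is characteristic; the Z-part -/

set_option autoImplicit false
set_option linter.unusedVariables false
set_option linter.style.haveILetI false

namespace Cfsg.Agent.S4118L

open Cfsg.Agent.S4291L Cfsg.Agent.S3358L
open scoped commutatorElement

universe u v

/-- `Valid` is invariant under automorphisms -/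
theorem valid_map {K : Type u} [Group K] [Finite K] {N : Subgroup K} (hN : Valid N)
    (e : K ≃* K) : Valid (N.map (e : K →* K)) := by
  obtain ⟨hn, hz, hq⟩ := hN
  have hquo : ∀ (Y : Type) [Group Y], Quo N Y → Quo (N.map (e : K →* K)) Y := by
    intro Y _ h
    obtain ⟨f, hf, hk⟩ := h
    refine ⟨f.comp (e.symm : K →* K), ?_, ?_⟩
    · intro y
      obtain ⟨x, rfl⟩ := hf y
      exact ⟨e x, by simp⟩
    · ext x
      rw [MonoidHom.mem_ker, Subgroup.mem_map]
      constructor
      · intro hx
        refine ⟨e.symm x, ?_, by simp⟩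
        rw [← hk, MonoidHom.mem_ker]
        exact hx
      · rintro ⟨y, hy, rfl⟩
        rw [← hk, MonoidHom.mem_ker] at hy
        simpa using hy
  refine ⟨?_, VU_isZ_map N (e : K →* K) hz, ?_⟩
  · exact hn.map (e : K →* K) e.surjective
  · rcases hq with h | h | h | h | h | h
    · left
      rw [h, ← MonoidHom.range_eq_map]
      exact MonoidHom.range_eq_top.mpr e.surjective
    · exact Or.inr (Or.inl (hquo _ h))
    · exact Or.inr (Or.inr (Or.inl (hquo _ h)))
    · exact Or.inr (Or.inr (Or.inr (Or.inl (hquo _ h))))
    · exact Or.inr (Or.inr (Or.inr (Or.inr (Or.inl (hquo _ h)))))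
    · exact Or.inr (Or.inr (Or.inr (Or.inr (Or.inr (hquo _ h)))))

/-- the valid subgroup is invariant under all automorphisms -/
theorem valid_map_eq {K : Type u} [Group K] [Finite K] (hU : PU K) {N : Subgroup K}
    (hN : Valid N) (e : K ≃* K) : N.map (e : K →* K) = N :=
  valid_unique hU (valid_map hN e) hN

/-- automorphism groups of cyclic groups are commutative -/
theorem mulAut_comm_of_isCyclic {D : Type u} [Group D] [IsCyclic D] (a b : MulAut D) :
    a * b = b * a := by
  let e := IsCyclic.mulAutMulEquiv D
  apply e.injective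
  rw [map_mul, map_mul, mul_comm]

/-- a hom into a group where everything commutes kills commutators -/
theorem map_commutatorElement_eq_one {Γ : Type u} {A : Type v} [Group Γ] [Group A] (φ : Γ →* A)
    (hA : ∀ a b : A, a * b = b * a) (g h : Γ) : φ ⁅g, h⁆ = 1 := by
  rw [map_commutatorElement, commutatorElement_eq_one_iff_mul_comm]
  exact hA _ _

end Cfsg.Agent.S4118L
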