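import Mathlib
import Cfsg.Agent.Lib.S4118.CoreA

/-! # S4118, part D (helper8): commutators of coprime elements centralize a normal Z-subgroup -/

set_option autoImplicit false
set_option linter.unusedVariables false
set_option linter.style.haveILetI false

namespace Cfsg.Agent.S4118L

open Cfsg.Agent.S4291L Cfsg.Agent.S3358L
open scoped commutatorElement

universe u

/-- a commutator `⁅q₁, q₂⁆` of order prime to `|M|` centralizes the normal Z-subgroup `M` -/
theorem zpart {Γ : Type u} [Group Γ] [Finite Γ] (M : Subgroup Γ) [hM : M.Normal]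
    [hZ : IsZGroup M] (q₁ q₂ : Γ) (n : ℕ) (hn : ⁅q₁, q₂⁆ ^ n = 1)
    (hcop : n.Coprime (Nat.card M)) :
    ∀ m ∈ M, ⁅q₁, q₂⁆ * m * ⁅q₁, q₂⁆⁻¹ = m := by
  classical
  set c := ⁅q₁, q₂⁆ with hc
  -- the derived subgroup `D` of `M`
  set D : Subgroup Γ := ⁅M, M⁆ with hD
  haveI hDn : D.Normal := Subgroup.commutator_normal M M
  have hDmap : (commutator ↥M).map M.subtype = D := Subgroup.map_subtype_commutator M
  haveI hcyc0 : IsCyclic (commutator ↥M) := IsZGroup.isCyclic_commutator ↥M
  haveI hcycD : IsCyclic ↥D := by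
    rw [← hDmap]
    let e := (commutator ↥M).equivMapOfInjective M.subtype M.subtype_injective
    exact isCyclic_of_surjective e e.surjective
  -- `c` centralizes `D`
  let φ₁ : Γ →* MulAut ↥D := MulAut.conjNormal
  have hφ₁ : φ₁ c = 1 := map_commutatorElement_eq_one φ₁ mulAut_comm_of_isCyclic q₁ q₂
  have hfixD : ∀ d ∈ D, c * d * c⁻¹ = d := by
    intro d hd
    have h1 : ((φ₁ c) ⟨d, hd⟩ : Γ) = c * d * c⁻¹ := MulAut.conjNormal_apply c ⟨d, hd⟩
    rw [hφ₁] at h1
    exact h1.symm
  -- `c` acts trivially on `M / D`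
  let φ₂ : Γ →* MulAut (Abelianization ↥M) :=
    MonoidHom.mk' (fun g => (MulAut.conjNormal g : ↥M ≃* ↥M).abelianizationCongr) (by
      intro g h
      ext x
      obtain ⟨m, rfl⟩ := QuotientGroup.mk_surjective x
      show (MulAut.conjNormal (g * h) : ↥M ≃* ↥M).abelianizationCongr (Abelianization.of m) =
        (MulAut.conjNormal g : ↥M ≃* ↥M).abelianizationCongr
          ((MulAut.conjNormal h : ↥M ≃* ↥M).abelianizationCongr (Abelianization.of m))
      rw [abelianizationCongr_of, abelianizationCongr_of,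
        abelianizationCongr_of, map_mul, MulAut.mul_apply])
  have hφ₂ : φ₂ c = 1 := map_commutatorElement_eq_one φ₂ mulAut_comm_of_isCyclic q₁ q₂
  have hquot : ∀ m : ↥M, m⁻¹ * (MulAut.conjNormal c : ↥M ≃* ↥M) m ∈ commutator ↥M := by
    intro m
    have h1 : (φ₂ c) (Abelianization.of m) = Abelianization.of m := by
      rw [hφ₂, MulAut.one_apply]
    have h2 : (φ₂ c) (Abelianization.of m) =
        Abelianization.of ((MulAut.conjNormal c : ↥M ≃* ↥M) m) :=
      abelianizationCongr_of _ m
    rw [h2] at h1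
    exact QuotientGroup.eq.mp h1.symm
  -- coprime stability
  have hstab : (MulAut.conjNormal c : MulAut ↥M) = 1 := by
    refine aut_stab (commutator ↥M) (MulAut.conjNormal c) n ?_ ?_ ?_ hquot
    · rw [← map_pow, hn, map_one]
    · exact Nat.Coprime.coprime_dvd_right (Subgroup.card_subgroup_dvd_card _) hcop
    · intro x hx
      apply Subtype.ext
      rw [MulAut.conjNormal_apply]
      apply hfixD
      rw [← hDmap]
      exact Subgroup.mem_map_of_mem M.subtype hx
  intro m hm
  have h1 : (((MulAut.conjNormal c : MulAut ↥M)) ⟨m, hm⟩ : Γ) = c * m * c⁻¹ :=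
    MulAut.conjNormal_apply c ⟨m, hm⟩
  rw [hstab] at h1
  exact h1.symm

end Cfsg.Agent.S4118L
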