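import Mathlib
import Cfsg.Agent.Lib.S4118.CoreB
import Cfsg.Agent.Lib.S3361.P2A

/-! # S4118, part E (helper8): commutators of a coprime group of automorphisms of a solvable
`PU`-group act trivially -/

set_option autoImplicit false
set_option linter.unusedVariables false
set_option linter.style.haveILetI false

namespace Cfsg.Agent.S4118L

open Cfsg.Agent.S4291L Cfsg.Agent.S3358L
open scoped commutatorElement

universe u

theorem card_A4' : Nat.card (alternatingGroup (Fin 4)) = 12 := by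
  have h := two_mul_card_alternatingGroup (α := Fin 4)
  rw [Fintype.card_perm, Fintype.card_fin] at h
  rw [Nat.card_eq_fintype_card]
  have : Nat.factorial 4 = 24 := rfl
  omega

theorem card_S4' : Nat.card (Equiv.Perm (Fin 4)) = 24 := by
  rw [Nat.card_eq_fintype_card, Fintype.card_perm, Fintype.card_fin]
  rfl

/-- **core**: `K ⊴ Γ` a solvable `PU`-group, `Q ≤ Γ` of order prime to `|K|`: commutators of
elements of `Q` centralize `K` -/
theorem core {Γ : Type u} [Group Γ] [Finite Γ] (K : Subgroup Γ) [hK : K.Normal]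
    (hs : Group.IsSolvable K) (hU : PU K) (Q : Subgroup Γ)
    (hcop : (Nat.card Q).Coprime (Nat.card K))
    (q₁ q₂ : Γ) (h₁ : q₁ ∈ Q) (h₂ : q₂ ∈ Q) :
    ∀ k ∈ K, ⁅q₁, q₂⁆ * k * ⁅q₁, q₂⁆⁻¹ = k := by
  classical
  set n := Nat.card Q with hn
  set c := ⁅q₁, q₂⁆ with hc
  have hq_pow : ∀ q ∈ Q, q ^ n = 1 := by
    intro q hq
    have h : (⟨q, hq⟩ : Q) ^ Nat.card Q = 1 := pow_card_eq_one'
    have h4 : ((⟨q, hq⟩ : Q) ^ Nat.card Q : Q).1 = (1 : Q).1 := congrArg Subtype.val h
    rw [Subgroup.coe_pow, Subgroup.coe_one] at h4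
    exact h4
  have hcQ : c ∈ Q := by
    rw [hc, commutatorElement_def]
    exact Q.mul_mem (Q.mul_mem (Q.mul_mem h₁ h₂) (Q.inv_mem h₁)) (Q.inv_mem h₂)
  have hcn : c ^ n = 1 := hq_pow c hcQ
  let α : Γ →* MulAut ↥K := MulAut.conjNormal
  obtain ⟨N₀, hV⟩ := exists_valid_of_solvable hs hU
  have hinv : ∀ g : Γ, N₀.map ((α g : ↥K ≃* ↥K) : ↥K →* ↥K) = N₀ :=
    fun g => valid_map_eq hU hV (α g)
  -- the valid subgroup as a normal Z-subgroup of `Γ`
  set M : Subgroup Γ := N₀.map K.subtype with hM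
  haveI hMn : M.Normal := by
    constructor
    intro m hm g
    obtain ⟨x, hx, rfl⟩ := hm
    have h3 : ((α g x : ↥K) : Γ) = g * (x : Γ) * g⁻¹ := MulAut.conjNormal_apply g x
    have h4 : α g x ∈ N₀ := by
      have : α g x ∈ N₀.map ((α g : ↥K ≃* ↥K) : ↥K →* ↥K) := Subgroup.mem_map_of_mem _ hx
      rwa [hinv g] at this
    show g * K.subtype x * g⁻¹ ∈ M
    rw [Subgroup.coe_subtype, ← h3]
    exact Subgroup.mem_map_of_mem K.subtype h4
  haveI hN₀Z : IsZGroup ↥N₀ := ⟨fun p hp P => by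
    haveI : Fact p.Prime := ⟨hp⟩
    exact hV.2.1 p P⟩
  let e : ↥N₀ ≃* ↥M := N₀.equivMapOfInjective K.subtype K.subtype_injective
  haveI hMZ : IsZGroup ↥M := IsZGroup.of_injective (f := e.symm.toMonoidHom) e.symm.injective
  have hMcard : Nat.card M = Nat.card N₀ := (Nat.card_congr e.toEquiv).symm
  have hN₀dvd : Nat.card N₀ ∣ Nat.card K := Subgroup.card_subgroup_dvd_card N₀
  have hcopN : n.Coprime (Nat.card N₀) := Nat.Coprime.coprime_dvd_right hN₀dvd hcop
  have hz := zpart M q₁ q₂ n hcn (by rw [hMcard]; exact hcopN)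
  have hN₀fix : ∀ x ∈ N₀, α c x = x := by
    intro x hx
    apply Subtype.ext
    have h3 : ((α c x : ↥K) : Γ) = c * (x : Γ) * c⁻¹ := MulAut.conjNormal_apply c x
    rw [h3]
    exact hz _ (Subgroup.mem_map_of_mem K.subtype hx)
  have hαn : (α c) ^ n = 1 := by rw [← map_pow, hcn, map_one]
  -- the action on `K / N₀`
  have hidx : ∀ (Y : Type) [Group Y], Quo N₀ Y → Nat.card Y ∣ Nat.card K := by
    intro Y _ hq
    rw [← VU_index_of_quo hq]
    exact Subgroup.index_dvd_card N₀
  have hfromB : ∀ (Y : Type) [Group Y] (f : ↥K →* Y) (hker : f.ker = N₀) (B : Γ →* MulAut Y)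
      (hB : ∀ (g : Γ) (k : ↥K), B g (f k) = f (α g k)), B c = 1 →
      ∀ k : ↥K, k⁻¹ * α c k ∈ N₀ := by
    intro Y _ f hker B hB hBc k
    rw [← hker, MonoidHom.mem_ker, map_mul, map_inv, ← hB, hBc, MulAut.one_apply, inv_mul_cancel]
  have hquot : ∀ k : ↥K, k⁻¹ * α c k ∈ N₀ := by
    rcases hV.2.2 with htop | hq | hq | hq | hq | hq
    · intro k
      rw [htop]
      exact Subgroup.mem_top _
    · -- `V₄`
      have h4 : 4 ∣ Nat.card K := by
        have := hidx _ hq
        rwa [VU_card_d2] at this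
      obtain ⟨f, hf, hker⟩ := hq
      have hinv' : ∀ g : Γ, (f.ker).map ((α g : ↥K ≃* ↥K) : ↥K →* ↥K) = f.ker := by
        rw [hker]; exact hinv
      obtain ⟨B, hB⟩ := exists_induced_hom α f hf hinv'
      have hodd : Odd n := by
        have h2 : n.Coprime 2 :=
          Nat.Coprime.coprime_dvd_right (Dvd.dvd.trans (by norm_num : 2 ∣ 4) h4) hcop
        exact Nat.coprime_two_right.mp h2
      have hBc : B c = 1 := by
        rw [hc, map_commutatorElement, commutatorElement_eq_one_iff_mul_comm]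
        apply aut_D2_comm (B q₁) (B q₂) n n _ _ hodd hodd
        · rw [← map_pow, hq_pow q₁ h₁, map_one]
        · rw [← map_pow, hq_pow q₂ h₂, map_one]
      exact hfromB _ f hker B hB hBc
    · -- `A₄`
      have h12 : 12 ∣ Nat.card K := by
        have := hidx _ hq
        rwa [card_A4'] at this
      obtain ⟨f, hf, hker⟩ := hq
      have hinv' : ∀ g : Γ, (f.ker).map ((α g : ↥K ≃* ↥K) : ↥K →* ↥K) = f.ker := by
        rw [hker]; exact hinv
      obtain ⟨B, hB⟩ := exists_induced_hom α f hf hinv'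
      have h6 : n.Coprime 6 :=
        Nat.Coprime.coprime_dvd_right (Dvd.dvd.trans (by norm_num : 6 ∣ 12) h12) hcop
      have hBc : B c = 1 := by
        apply aut_A4_trivial (B c) n _ h6
        rw [← map_pow, hcn, map_one]
      exact hfromB _ f hker B hB hBc
    · -- `S₄`
      have h24 : 24 ∣ Nat.card K := by
        have := hidx _ hq
        rwa [card_S4'] at this
      obtain ⟨f, hf, hker⟩ := hq
      have hinv' : ∀ g : Γ, (f.ker).map ((α g : ↥K ≃* ↥K) : ↥K →* ↥K) = f.ker := by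
        rw [hker]; exact hinv
      obtain ⟨B, hB⟩ := exists_induced_hom α f hf hinv'
      have h6 : n.Coprime 6 :=
        Nat.Coprime.coprime_dvd_right (Dvd.dvd.trans (by norm_num : 6 ∣ 24) h24) hcop
      have hBc : B c = 1 := by
        apply aut_S4_trivial (B c) n _ h6
        rw [← map_pow, hcn, map_one]
      exact hfromB _ f hker B hB hBc
    · exfalso
      obtain ⟨f, hf, hker⟩ := hq
      haveI := hs
      exact Cfsg.Agent.S3361L.A5_not_solvable (Group.isSolvable_of_surjective hf)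
    · exfalso
      obtain ⟨f, hf, hker⟩ := hq
      haveI := hs
      exact Cfsg.Agent.S3361L.S5_not_solvable (Group.isSolvable_of_surjective hf)
  have hα1 : α c = 1 := aut_stab N₀ (α c) n hαn hcopN hN₀fix hquot
  intro k hk
  have h3 : ((α c ⟨k, hk⟩ : ↥K) : Γ) = c * k * c⁻¹ := MulAut.conjNormal_apply c ⟨k, hk⟩
  rw [hα1] at h3
  exact h3.symm

end Cfsg.Agent.S4118L
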