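import Mathlib
import Cfsg.Prelude.Def_OddOrderLocal
import Cfsg.Prelude.Def_Solvable
import Cfsg.Agent.Lib.Helper5.TIH.Basic
import Cfsg.Agent.H2.WielandtFrob
import Cfsg.Agent.H2.FrobeniusLower
import Cfsg.Agent.Lib.S4292.Defs

/-! # S4118, part F (helper8): the TI Hall subgroup `H` is a Frobenius complement -/

set_option autoImplicit false
set_option linter.unusedVariables false
set_option linter.style.haveILetI false

namespace Cfsg.Agent.S4118L

open Cfsg.Agent.Lib.Helper5.TIH

universe u

/-- `|O H| = |O| |H|` for coprime orders -/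
theorem card_sup_eq_mul {G : Type u} [Group G] [Finite G] (H O : Subgroup G) (hOn : O.Normal)
    (hOc : (Nat.card O).Coprime (Nat.card H)) :
    Nat.card (O ⊔ H : Subgroup G) = Nat.card O * Nat.card H := by
  haveI := hOn
  apply Nat.dvd_antisymm
  · have := card_sup_dvd O H
    rwa [sup_comm] at this
  · exact Nat.Coprime.mul_dvd_of_dvd_of_dvd hOc (Subgroup.card_dvd_of_le le_sup_left)
      (Subgroup.card_dvd_of_le le_sup_right)

/-- the TI Hall subgroup `H` is isomorphic to a Frobenius complement -/
theorem isFC_of_TI {G : Type u} [Group G] [Finite G] (H : Subgroup G)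
    (hTI : Cfsg.IsTISubset (H : Set G)) (hnn : ¬ H.Normal)
    (O : Subgroup G) (hOn : O.Normal) (hOc : (Nat.card O).Coprime (Nat.card H))
    (hc : O ⊔ Subgroup.normalizer (H : Set G) = ⊤) : Cfsg.Agent.S4292L.IsFC H := by
  haveI := hOn
  set X : Subgroup G := O ⊔ H with hX
  set HX : Subgroup X := H.subgroupOf X with hHX
  set MX : Subgroup X := O.subgroupOf X with hMX
  have hHle : H ≤ X := le_sup_right
  have hOle : O ≤ X := le_sup_left
  have hcardH : Nat.card HX = Nat.card H :=
    Nat.card_congr (Subgroup.subgroupOfEquivOfLe hHle).toEquiv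
  have hcardM : Nat.card MX = Nat.card O :=
    Nat.card_congr (Subgroup.subgroupOfEquivOfLe hOle).toEquiv
  have hcardX : Nat.card X = Nat.card O * Nat.card H := card_sup_eq_mul H O hOn hOc
  -- TI in `X`
  have hTIX : Cfsg.IsTISubset ((HX : Subgroup X) : Set X) := by
    intro g hg x hx hgx
    have hg' : (g : G) ∉ Subgroup.normalizer (H : Set G) := by
      intro h
      apply hg
      rw [Subgroup.mem_normalizer_iff]
      intro y
      have := (Subgroup.mem_normalizer_iff.mp h) (y : G)
      exact this
    have h1 := hTI (g : G) hg' (x : G) hx hgx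
    exact Subtype.ext h1
  -- coprime index
  have hidx : HX.index = Nat.card O := by
    have h1 := Subgroup.card_mul_index HX
    rw [hcardH, hcardX, mul_comm] at h1
    exact Nat.eq_of_mul_eq_mul_right Nat.card_pos h1
  have hcopX : (Nat.card HX).Coprime HX.index := by
    rw [hcardH, hidx]; exact hOc.symm
  haveI hMn : MX.Normal := hOn.subgroupOf X
  have hMc : MX.IsComplement' HX := by
    apply Subgroup.isComplement'_of_coprime
    · rw [hcardM, hcardH, hcardX]
    · rw [hcardM, hcardH]; exact hOc
  have hHn : ¬ HX.Normal := not_normal_subgroupOf_sup H O hnn hc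
  obtain ⟨F, instF, finF, C, hC, ⟨e⟩⟩ :=
    Cfsg.Agent.H2.Wielandt.exists_frobenius HX MX hTIX hcopX hMn hMc hHn
  obtain ⟨L, instL, finL, C', hC', ⟨e'⟩⟩ := Cfsg.Agent.H2.FrobLower.exists_type_zero C hC
  exact ⟨L, instL, finL, C', hC',
    ⟨((Subgroup.subgroupOfEquivOfLe hHle).symm.trans e).trans e'⟩⟩

end Cfsg.Agent.S4118L
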