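import Mathlib
import Cfsg.Agent.Lib.S3358.Defs
import Cfsg.Agent.Lib.Zass.FinalB
import Cfsg.Agent.Lib.Zass.Basic
import Cfsg.Agent.Lib.S3358.T0

/-! # S4118, part H (helper8): small transfer lemmas; a Frobenius complement without `SL(2,5)`
is solvable -/

set_option autoImplicit false
set_option linter.unusedVariables false
set_option linter.style.haveILetI false

namespace Cfsg.Agent.S4118L

open Cfsg.Agent.S3358L

universe u v

local notation "SL25" => Matrix.SpecialLinearGroup (Fin 2) (ZMod 5)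

theorem SL25_not_solvable : ¬ Group.IsSolvable SL25 := by
  intro hs
  haveI := hs
  haveI : Nontrivial SL25 := by
    refine ⟨⟨⟨!![2, 0; 0, 3], by decide⟩, 1, ?_⟩⟩
    intro h
    have h2 : (!![2, 0; 0, 3] : Matrix (Fin 2) (Fin 2) (ZMod 5)) 0 0 = (1 : Matrix (Fin 2) (Fin 2) (ZMod 5)) 0 0 :=
      congrArg (fun M : SL25 => M.1 0 0) h
    revert h2
    decide
  exact (Group.IsSolvable.commutator_lt_top_of_nontrivial (G := SL25)).ne
    Cfsg.Agent.S3378.sl_perfect

theorem PU_of_mulEquiv {A : Type u} {B : Type v} [Group A] [Group B] (e : A ≃* B) (h : PU A) :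
    PU B := by
  intro p a b hp ha hb hab
  have h1 : orderOf (e.symm a) = p := by rw [MulEquiv.orderOf_eq]; exact ha
  have h2 : orderOf (e.symm b) = p := by rw [MulEquiv.orderOf_eq]; exact hb
  have h3 : e.symm a * e.symm b = e.symm b * e.symm a := by
    rw [← map_mul, ← map_mul, hab]
  obtain ⟨k, hk⟩ := Subgroup.mem_zpowers_iff.mp (h p _ _ hp h1 h2 h3)
  refine Subgroup.mem_zpowers_iff.mpr ⟨k, ?_⟩
  have := congrArg e hk
  rwa [map_zpow, MulEquiv.apply_symm_apply, MulEquiv.apply_symm_apply] at this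

/-- a Frobenius complement with no subgroup `SL(2,5)` is solvable -/
theorem solvable_of_isFC_of_no_sl25 {G : Type u} [Group G] [Finite G] (H : Subgroup G)
    (hFC : Cfsg.Agent.S4292L.IsFC H)
    (hno : ∀ K : Subgroup G, K ≤ H → ¬ Nonempty (K ≃* SL25)) : Group.IsSolvable H := by
  by_contra hns
  have hU : PU H := (T0_props hFC).1
  have hfree := Cfsg.Agent.ZassL.exists_free_of_isFC hFC
  obtain ⟨G₀, -, -, S, M, -, -, -, ⟨e⟩, -, -⟩ :=
    Cfsg.Agent.ZassL.ZS_structure Cfsg.Agent.ZassL.theoremZ_holds hU hfree hns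
  refine hno (S.map H.subtype) ?_ ⟨?_⟩
  · rintro x ⟨y, -, rfl⟩
    exact y.2
  · exact ((S.equivMapOfInjective H.subtype H.subtype_injective).symm).trans e

end Cfsg.Agent.S4118L
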