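import Mathlib
import Cfsg.Agent.Lib.S4118.CoreC
import Cfsg.Agent.Lib.S4118.MainA

/-! # S4118, part I (helper8): a complement `Q` of `H` in `N_G(H)` whose commutators
centralize `H` -/

set_option autoImplicit false
set_option linter.unusedVariables false
set_option linter.style.haveILetI false

namespace Cfsg.Agent.S4118L

open Cfsg.Agent.S3358L
open scoped commutatorElement

universe u

theorem exists_complement {G : Type u} [Group G] [Finite G] (H : Subgroup G)
    (hHall : (Nat.card H).Coprime (H.subgroupOf (Subgroup.normalizer (H : Set G))).index)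
    (hs : Group.IsSolvable H) (hU : PU H) :
    ∃ Q : Subgroup G, Q ≤ Subgroup.normalizer (H : Set G) ∧
      (Nat.card Q).Coprime (Nat.card H) ∧
      (∀ n ∈ Subgroup.normalizer (H : Set G), ∃ q ∈ Q, ∃ h ∈ H, n = q * h) ∧
      ∀ q₁ ∈ Q, ∀ q₂ ∈ Q, ∀ h ∈ H, ⁅q₁, q₂⁆ * h * ⁅q₁, q₂⁆⁻¹ = h := by
  classical
  set N : Subgroup G := Subgroup.normalizer (H : Set G) with hN
  set K : Subgroup N := H.subgroupOf N with hK
  haveI hKn : K.Normal := Subgroup.normal_in_normalizer
  let e : K ≃* H := Subgroup.subgroupOfEquivOfLe Subgroup.le_normalizer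
  have hcardK : Nat.card K = Nat.card H := Nat.card_congr e.toEquiv
  have hsK : Group.IsSolvable K := by
    haveI := hs
    exact Group.isSolvable_of_isSolvable_injective (f := e.toMonoidHom) e.injective
  have hUK : PU K := PU_of_mulEquiv e.symm hU
  obtain ⟨QΓ, hQΓ⟩ := Subgroup.exists_right_complement'_of_coprime (N := K)
    (by rw [hcardK]; exact hHall)
  have hidx : K.index = Nat.card QΓ := hQΓ.symm.index_eq_card
  have hcop : (Nat.card QΓ).Coprime (Nat.card K) := by
    rw [← hidx, hcardK]; exact hHall.symm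
  refine ⟨QΓ.map N.subtype, ?_, ?_, ?_, ?_⟩
  · rintro x ⟨y, -, rfl⟩
    exact y.2
  · rw [Subgroup.card_map_of_injective N.subtype_injective, ← hcardK]
    exact hcop
  · intro n hn
    obtain ⟨⟨⟨q, hq⟩, ⟨k, hk⟩⟩, hx, -⟩ := hQΓ.symm.existsUnique (⟨n, hn⟩ : N)
    refine ⟨(q : G), ⟨q, hq, rfl⟩, (k : G), Subgroup.mem_subgroupOf.mp hk, ?_⟩
    have := congrArg Subtype.val hx
    simpa using this.symm
  · rintro _ ⟨a, ha, rfl⟩ _ ⟨b, hb, rfl⟩ h hh
    have hk : (⟨h, Subgroup.le_normalizer hh⟩ : N) ∈ K := Subgroup.mem_subgroupOf.mpr hh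
    have := core K hsK hUK QΓ hcop a b ha hb _ hk
    have h2 := congrArg Subtype.val this
    simpa [commutatorElement_def] using h2

end Cfsg.Agent.S4118L
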