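import Mathlib
import Cfsg.Prelude.Def_OddOrderLocal
import Cfsg.Agent.Lib.Helper5.TIH.Basic
import Cfsg.Agent.Lib.S4118.MainB
import Cfsg.Agent.Lib.S4118.FC
import Cfsg.Agent.Lib.S4118.Cent

/-! # S4118, part J (helper8): the solvability criterion -/

set_option autoImplicit false
set_option linter.unusedVariables false
set_option linter.style.haveILetI false

namespace Cfsg.Agent.S4118L

open Cfsg.Agent.S3358L Cfsg.Agent.Lib.Helper5.TIH
open scoped commutatorElement

universe u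

local notation "SL25" => Matrix.SpecialLinearGroup (Fin 2) (ZMod 5)

/-- `O ⊔ H` is solvable when `O` (normal) and `H` are -/
theorem sup_solvable {G : Type u} [Group G] (O H : Subgroup G) [hOn : O.Normal]
    (hOs : Group.IsSolvable O) (hHs : Group.IsSolvable H) :
    Group.IsSolvable (O ⊔ H : Subgroup G) := by
  haveI := hOs
  haveI := hHs
  set P : Subgroup G := O ⊔ H with hP
  set OP : Subgroup P := O.subgroupOf P with hOP
  haveI : OP.Normal := Subgroup.normal_subgroupOf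
  have hsurj : Function.Surjective
      ((QuotientGroup.mk' OP).comp (Subgroup.inclusion (le_sup_right : H ≤ P))) := by
    intro y
    obtain ⟨x, rfl⟩ := QuotientGroup.mk'_surjective OP y
    obtain ⟨o, ho, h, hh, hx⟩ := Subgroup.mem_sup_of_normal_left.mp x.2
    refine ⟨⟨h, hh⟩, ?_⟩
    rw [MonoidHom.comp_apply, QuotientGroup.mk'_apply, QuotientGroup.mk'_apply, QuotientGroup.eq]
    rw [Subgroup.mem_subgroupOf]
    have : ((Subgroup.inclusion (le_sup_right : H ≤ P) ⟨h, hh⟩)⁻¹ * x : P).1 = h⁻¹ * o * h := by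
      simp [← hx, mul_assoc]
    rw [this]
    have := hOn.conj_mem o ho h⁻¹
    simpa using this
  haveI : Group.IsSolvable (P ⧸ OP) := Group.isSolvable_of_surjective hsurj
  refine Group.isSolvable_of_ker_le_range (Subgroup.inclusion (le_sup_left : O ≤ P))
    (QuotientGroup.mk' OP) ?_
  rw [QuotientGroup.ker_mk']
  intro x hx
  exact ⟨⟨x.1, Subgroup.mem_subgroupOf.mp hx⟩, rfl⟩

theorem solvable_of {G : Type u} [Group G] [Finite G] (H : Subgroup G)
    (hTI : Cfsg.IsTISubset (H : Set G)) (hnn : ¬ H.Normal)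
    (hHall : (Nat.card H).Coprime (H.subgroupOf (Subgroup.normalizer (H : Set G))).index)
    (O : Subgroup G) (hOn : O.Normal) (hOc : (Nat.card O).Coprime (Nat.card H))
    (hOmax : ∀ K : Subgroup G, K.Normal → (Nat.card K).Coprime (Nat.card H) → K ≤ O)
    (hc : O ⊔ Subgroup.normalizer (H : Set G) = ⊤) (hPn : (O ⊔ H).Normal)
    (hOs : Group.IsSolvable O)
    (hno : ∀ K : Subgroup G, K ≤ H → ¬ Nonempty (K ≃* SL25)) : Group.IsSolvable G := by
  classical
  haveI := hOn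
  have hFC := isFC_of_TI H hTI hnn O hOn hOc hc
  have hHs : Group.IsSolvable H := solvable_of_isFC_of_no_sl25 H hFC hno
  have hU : PU H := (T0_props hFC).1
  obtain ⟨Q, hQN, hQc, hNQH, hQcomm⟩ := exists_complement H hHall hHs hU
  have hcent := cent_inf_le H O Q hOn hOc hOmax hc hQN hQc hNQH
  have hcommO : ∀ q₁ ∈ Q, ∀ q₂ ∈ Q, ⁅q₁, q₂⁆ ∈ O := by
    intro q₁ h₁ q₂ h₂
    apply hcent
    refine Subgroup.mem_inf.mpr ⟨?_, ?_⟩
    · rw [commutatorElement_def]
      exact Q.mul_mem (Q.mul_mem (Q.mul_mem h₁ h₂) (Q.inv_mem h₁)) (Q.inv_mem h₂)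
    · rw [Subgroup.mem_centralizer_iff]
      intro h hh
      have := hQcomm q₁ h₁ q₂ h₂ h hh
      calc h * ⁅q₁, q₂⁆ = (⁅q₁, q₂⁆ * h * ⁅q₁, q₂⁆⁻¹) * ⁅q₁, q₂⁆ := by rw [this]
        _ = ⁅q₁, q₂⁆ * h := by group
  set P : Subgroup G := O ⊔ H with hP
  haveI := hPn
  -- every element of `G` is in `P * Q`
  have hdecomp : ∀ g : G, ∃ p ∈ P, ∃ q ∈ Q, g = p * q := by
    intro g
    have hg : g ∈ O ⊔ Subgroup.normalizer (H : Set G) := by rw [hc]; trivial
    obtain ⟨o, ho, n, hn, rfl⟩ := Subgroup.mem_sup_of_normal_left.mp hg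
    obtain ⟨q, hq, h, hh, rfl⟩ := hNQH n hn
    refine ⟨o * (q * h * q⁻¹), ?_, q, hq, by group⟩
    refine P.mul_mem (le_sup_left (a := O) (b := H) ho) (le_sup_right (a := O) (b := H) ?_)
    exact (Subgroup.mem_normalizer_iff.mp (hQN hq) h).mp hh
  have hcomm : ∀ a b : G ⧸ P, a * b = b * a := by
    intro a b
    obtain ⟨g₁, rfl⟩ := QuotientGroup.mk'_surjective P a
    obtain ⟨g₂, rfl⟩ := QuotientGroup.mk'_surjective P b
    obtain ⟨p₁, hp₁, q₁, hq₁, rfl⟩ := hdecomp g₁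
    obtain ⟨p₂, hp₂, q₂, hq₂, rfl⟩ := hdecomp g₂
    have e₁ : QuotientGroup.mk' P (p₁ * q₁) = QuotientGroup.mk' P q₁ := by
      rw [map_mul, QuotientGroup.mk'_apply, (QuotientGroup.eq_one_iff p₁).mpr hp₁, one_mul]
    have e₂ : QuotientGroup.mk' P (p₂ * q₂) = QuotientGroup.mk' P q₂ := by
      rw [map_mul, QuotientGroup.mk'_apply, (QuotientGroup.eq_one_iff p₂).mpr hp₂, one_mul]
    rw [e₁, e₂, ← map_mul, ← map_mul, QuotientGroup.mk'_apply, QuotientGroup.mk'_apply,
      QuotientGroup.eq]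
    have h3 : (q₁ * q₂)⁻¹ * (q₂ * q₁) = ⁅q₂⁻¹, q₁⁻¹⁆ := by
      rw [commutatorElement_def]; group
    rw [h3]
    exact le_sup_left (a := O) (b := H) (hcommO _ (Q.inv_mem hq₂) _ (Q.inv_mem hq₁))
  haveI : Group.IsSolvable (G ⧸ P) := Group.isSolvable_of_comm hcomm
  haveI : Group.IsSolvable P := sup_solvable O H hOs hHs
  refine Group.isSolvable_of_ker_le_range P.subtype (QuotientGroup.mk' P) ?_
  rw [QuotientGroup.ker_mk', Subgroup.range_subtype]

theorem main {G : Type u} [Group G] [Finite G] (H : Subgroup G)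
    (hTI : Cfsg.IsTISubset (H : Set G)) (hnn : ¬ H.Normal)
    (hHall : (Nat.card H).Coprime (H.subgroupOf (Subgroup.normalizer (H : Set G))).index)
    (hsep : ∃ (n : ℕ) (M : Fin (n + 1) → Subgroup G), M 0 = ⊥ ∧ M (Fin.last n) = ⊤ ∧ Monotone M ∧
      (∀ i, (M i).Normal) ∧
      ∀ i : Fin n, (∀ q : ℕ, q.Prime → q ∣ (M i.castSucc).relIndex (M i.succ) → q ∣ Nat.card H) ∨
        ((M i.castSucc).relIndex (M i.succ)).Coprime (Nat.card H))
    (O : Subgroup G)
    (hO : O = sSup {K : Subgroup G | K.Normal ∧ (Nat.card K).Coprime (Nat.card H)}) :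
    O ⊔ Subgroup.normalizer (H : Set G) = ⊤ ∧ (O ⊔ H).Normal ∧
    (Group.IsSolvable G ↔ Group.IsSolvable O ∧
      ∀ K : Subgroup G, K ≤ H → ¬ Nonempty (K ≃* SL25)) := by
  obtain ⟨hOn, hOc, hOmax⟩ := sSup_props H O hO
  have hc := sup_normalizer_eq_top H hTI hnn hHall hsep O hOn hOc hOmax
  have hPn := sup_normal_of_sup_normalizer H O hOn hc
  refine ⟨hc, hPn, ?_, ?_⟩
  · intro hG
    haveI := hG
    refine ⟨inferInstance, ?_⟩
    rintro K hK ⟨e⟩
    apply SL25_not_solvable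
    haveI : Group.IsSolvable K := inferInstance
    exact Group.isSolvable_of_surjective (f := e.toMonoidHom) e.surjective
  · rintro ⟨hOs, hno⟩
    exact solvable_of H hTI hnn hHall O hOn hOc hOmax hc hPn hOs hno

end Cfsg.Agent.S4118L
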